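import Mathlib
import Cfsg.Agent.Helper17.Fi78.Data

/-! Kernel-friendly evaluation of matrix–vector products over `ZMod 13`: vectors and the columns of
the matrices are packed into natural numbers (base `2^17` digits, digit `0` is ignored). -/

set_option autoImplicit false
set_option linter.all false

namespace Cfsg.Agent.Helper17.Fi78

/-- the base of the packing -/
def B : ℕ := 131072

/-- evaluate `x` before calling `f` -/
def forceN {α : Sort*} (x : ℕ) (f : ℕ → α) : α := Nat.rec (f 0) (fun n _ => f n) (x + 1)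

theorem forceN_eq {α : Sort*} (x : ℕ) (f : ℕ → α) : forceN x f = f x := rfl

/-- `Σ_j digit_{j+1}(v) * P_j`, where the digits are read at the shifts `sh + 17 (j+1)` -/
def dotI : ℕ → List ℕ → ℕ → ℕ
  | _, [], _ => 0
  | sh, p :: ps, v => forceN (sh + 17) fun sh' => ((v >>> sh') % B) * p + dotI sh' ps v

theorem dotI_nil (sh v : ℕ) : dotI sh [] v = 0 := rfl

theorem dotI_cons (sh p : ℕ) (ps : List ℕ) (v : ℕ) :
    dotI sh (p :: ps) v = ((v >>> (sh + 17)) % B) * p + dotI (sh + 17) ps v := rfl

/-- `Σ_{i<k} (digit_{i+1}(x) % 13) * 2^(17 (i+1))` -/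
def rpI : ℕ → ℕ → ℕ → ℕ
  | 0, _, _ => 0
  | k+1, sh, x => forceN (sh + 17) fun sh' => (((x >>> sh') % B % 13) <<< sh') + rpI k sh' x

theorem rpI_zero (sh x : ℕ) : rpI 0 sh x = 0 := rfl

theorem rpI_succ (k sh x : ℕ) :
    rpI (k + 1) sh x = (((x >>> (sh + 17)) % B % 13) <<< (sh + 17)) + rpI k (sh + 17) x := rfl

/-- matrix (packed columns `P`) times vector -/
def mvN (P : List ℕ) (v : ℕ) : ℕ := forceN (dotI 0 P v) fun x => x % B + rpI 78 0 x

theorem mvN_eq (P : List ℕ) (v : ℕ) : mvN P v = dotI 0 P v % B + rpI 78 0 (dotI 0 P v) := rfl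

/-- apply the letters of `w` in turn (first letter first) -/
def run : List ℕ → ℕ → ℕ
  | [], v => v
  | l :: w, v => forceN (mvN (colsP l) v) (run w)

theorem run_nil (v : ℕ) : run [] v = v := rfl

theorem run_cons (l : ℕ) (w : List ℕ) (v : ℕ) : run (l :: w) v = run w (mvN (colsP l) v) := rfl

/-- the words `w` and `w'` agree on the vectors of the list (up to digit `0`) -/
def chk2 (w w' : List ℕ) : List ℕ → Bool
  | [] => true
  | e :: es => Nat.beq ((run w e) >>> 17) ((run w' e) >>> 17) && chk2 w w' es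

end Cfsg.Agent.Helper17.Fi78
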