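import Mathlib
import Cfsg.Agent.Helper17.Fi78.Eval

/-! Semantics of the packed matrix–vector product of `Eval`: `vecOf (mvN P v) = matOf P *ᵥ vecOf v`. -/

set_option autoImplicit false
set_option linter.all false

namespace Cfsg.Agent.Helper17.Fi78

open Matrix Finset

/-- digit `k` (base `B`) of `x` -/
def dig (x k : ℕ) : ℕ := x / B ^ k % B

theorem B_pos : 0 < B := by decide

theorem B_pow (k : ℕ) : 2 ^ (17 * k) = B ^ k := by
  rw [pow_mul]; rfl

theorem shiftRight_mod (x k : ℕ) : (x >>> (17 * k)) % B = dig x k := by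
  unfold dig; rw [Nat.shiftRight_eq_div_pow, B_pow]

theorem dig_lt (x k : ℕ) : dig x k < B := Nat.mod_lt _ B_pos

theorem dig_succ (x k : ℕ) : dig x (k + 1) = dig (x / B) k := by
  unfold dig; rw [pow_succ', Nat.div_div_eq_div_mul]

theorem dig_zero (x : ℕ) : dig x 0 = x % B := by
  unfold dig; simp

/-- base `B` expansion -/
theorem eq_sum_dig (n : ℕ) : ∀ x, x < B ^ n → x = ∑ i ∈ range n, dig x i * B ^ i := by
  induction n with
  | zero => intro x hx; simp at hx; simp [hx]
  | succ n ih =>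
    intro x hx
    have h1 : x / B < B ^ n := by
      apply Nat.div_lt_of_lt_mul
      rwa [pow_succ'] at hx
    have h2 := ih (x / B) h1
    rw [sum_range_succ']
    have h3 : ∑ i ∈ range n, dig x (i + 1) * B ^ (i + 1) = B * (x / B) := by
      conv_rhs => rw [h2, mul_sum]
      apply sum_congr rfl
      intro i _
      rw [dig_succ, pow_succ']; ring
    rw [h3, dig_zero, pow_zero, mul_one]
    exact (Nat.div_add_mod x B).symm

/-- digits of a sum of bounded digits -/
theorem dig_sum (n : ℕ) : ∀ (c : ℕ → ℕ), (∀ i, i < n → c i < B) → ∀ k, k < n →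
    dig (∑ i ∈ range n, c i * B ^ i) k = c k := by
  induction n with
  | zero => intro c _ k hk; omega
  | succ n ih =>
    intro c hc k hk
    have hS : ∑ i ∈ range (n + 1), c i * B ^ i = c 0 + B * ∑ i ∈ range n, c (i + 1) * B ^ i := by
      rw [sum_range_succ', mul_sum, pow_zero, mul_one, add_comm]
      congr 1
      apply sum_congr rfl
      intro i _
      rw [pow_succ']; ring
    rw [hS]
    have h0 : c 0 < B := hc 0 (by omega)
    rcases k with _ | k
    · rw [dig_zero, Nat.add_mul_mod_self_left, Nat.mod_eq_of_lt h0]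
    · rw [dig_succ, Nat.add_mul_div_left _ _ B_pos, Nat.div_eq_of_lt h0, zero_add]
      exact ih (fun i => c (i + 1)) (fun i hi => hc (i + 1) (by omega)) k (by omega)

theorem dotI_eq (P : List ℕ) : ∀ (s v : ℕ),
    dotI (17 * s) P v = ∑ j ∈ range P.length, dig v (s + j + 1) * P.getD j 0 := by
  induction P with
  | nil => intro s v; simp [dotI_nil]
  | cons p ps ih =>
    intro s v
    have e : 17 * s + 17 = 17 * (s + 1) := by ring
    have h1 : ∑ j ∈ range ps.length, dig v (s + 1 + j + 1) * ps.getD j 0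
        = ∑ j ∈ range ps.length, dig v (s + (j + 1) + 1) * (p :: ps).getD (j + 1) 0 := by
      apply sum_congr rfl
      intro j _
      have e2 : s + 1 + j + 1 = s + (j + 1) + 1 := by ring
      rw [List.getD_cons_succ, e2]
    rw [dotI_cons, e, shiftRight_mod, ih (s + 1) v, List.length_cons, sum_range_succ', h1, add_comm]
    rfl

theorem rpI_eq (k : ℕ) : ∀ (s x : ℕ),
    rpI k (17 * s) x = ∑ i ∈ range k, (dig x (s + i + 1) % 13) * B ^ (s + i + 1) := by
  induction k with
  | zero => intro s x; simp [rpI_zero]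
  | succ k ih =>
    intro s x
    have e : 17 * s + 17 = 17 * (s + 1) := by ring
    have h1 : ∑ i ∈ range k, (dig x (s + 1 + i + 1) % 13) * B ^ (s + 1 + i + 1)
        = ∑ i ∈ range k, (dig x (s + (i + 1) + 1) % 13) * B ^ (s + (i + 1) + 1) := by
      apply sum_congr rfl
      intro j _
      have e2 : s + 1 + j + 1 = s + (j + 1) + 1 := by ring
      rw [e2]
    rw [rpI_succ, e, shiftRight_mod, ih (s + 1) x, Nat.shiftLeft_eq, B_pow, sum_range_succ', h1, add_comm]

/-- the vector of a packed number: digits `1 … 78` -/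
def vecOf (v : ℕ) : Fin 78 → ZMod 13 := fun i => ((dig v (i.val + 1) : ℕ) : ZMod 13)

/-- the matrix of a list of packed columns -/
def matOf (P : List ℕ) : Matrix (Fin 78) (Fin 78) (ZMod 13) :=
  Matrix.of fun i j => ((dig (P.getD j.val 0) (i.val + 1) : ℕ) : ZMod 13)

/-- the digits `1 … 78` are reduced mod 13 -/
def GoodV (v : ℕ) : Prop := ∀ j, j < 78 → dig v (j + 1) ≤ 12

/-- 78 columns with 79 small digits -/
def GoodM (P : List ℕ) : Prop := P.length = 78 ∧ ∀ p ∈ P, p < B ^ 79 ∧ ∀ i, i < 79 → dig p i ≤ 78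

theorem dig_dot {P : List ℕ} (hP : GoodM P) {v : ℕ} (hv : GoodV v) (k : ℕ) (hk : k < 79) :
    dig (dotI 0 P v) k = ∑ j ∈ range 78, dig v (j + 1) * dig (P.getD j 0) k := by
  have h0 : dotI 0 P v = ∑ j ∈ range 78, dig v (j + 1) * P.getD j 0 := by
    have := dotI_eq P 0 v
    simp only [Nat.mul_zero, zero_add, hP.1] at this
    exact this
  have hmem : ∀ j ∈ range 78, P.getD j 0 ∈ P := by
    intro j hj
    have hj' : j < P.length := by rw [hP.1]; exact mem_range.mp hj
    rw [List.getD_eq_getElem _ _ hj']; exact List.getElem_mem _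
  have h1 : ∀ j ∈ range 78, dig v (j + 1) * P.getD j 0
      = ∑ i ∈ range 79, (dig v (j + 1) * dig (P.getD j 0) i) * B ^ i := by
    intro j hj
    conv_lhs => rw [eq_sum_dig 79 _ (hP.2 _ (hmem j hj)).1, mul_sum]
    apply sum_congr rfl
    intro i _
    ring
  rw [h0, sum_congr rfl h1, sum_comm]
  simp_rw [← sum_mul]
  apply dig_sum 79 _ _ k hk
  intro i hi
  calc ∑ j ∈ range 78, dig v (j + 1) * dig (P.getD j 0) i
      ≤ ∑ j ∈ range 78, 12 * 78 := by
        apply sum_le_sum
        intro j hj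
        exact Nat.mul_le_mul (hv j (mem_range.mp hj)) ((hP.2 _ (hmem j hj)).2 i hi)
    _ = 73008 := by simp
    _ < B := by decide

theorem dig_mvN (P : List ℕ) (v : ℕ) (i : ℕ) (hi : i < 78) :
    dig (mvN P v) (i + 1) = dig (dotI 0 P v) (i + 1) % 13 := by
  generalize hx : dotI 0 P v = x
  have h := rpI_eq 78 0 x
  simp only [Nat.mul_zero, zero_add] at h
  rw [mvN_eq, hx, h]
  have hc : x % B + ∑ i ∈ range 78, (dig x (i + 1) % 13) * B ^ (i + 1)
      = ∑ i ∈ range 79, (Nat.rec (x % B) (fun i _ => dig x (i + 1) % 13) i : ℕ) * B ^ i := by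
    rw [sum_range_succ' _ 78]
    simp only [pow_zero, mul_one]
    exact add_comm _ _
  rw [hc, dig_sum 79 _ _ (i + 1) (by omega)]
  intro j hj
  rcases j with _ | j
  · exact Nat.mod_lt _ B_pos
  · calc dig x (j + 1) % 13 < 13 := Nat.mod_lt _ (by norm_num)
      _ < B := by decide

theorem mv_spec {P : List ℕ} (hP : GoodM P) {v : ℕ} (hv : GoodV v) :
    GoodV (mvN P v) ∧ vecOf (mvN P v) = matOf P *ᵥ vecOf v := by
  constructor
  · intro j hj
    rw [dig_mvN P v j hj]
    have := Nat.mod_lt (dig (dotI 0 P v) (j + 1)) (by norm_num : 0 < 13)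
    omega
  · funext i
    have hi := i.isLt
    show ((dig (mvN P v) (i.val + 1) : ℕ) : ZMod 13)
      = ∑ j : Fin 78, ((dig (P.getD j.val 0) (i.val + 1) : ℕ) : ZMod 13) * ((dig v (j.val + 1) : ℕ) : ZMod 13)
    rw [dig_mvN P v i hi, ZMod.natCast_mod, dig_dot hP hv (i.val + 1) (by omega)]
    rw [Fin.sum_univ_eq_sum_range
      (fun j => ((dig (P.getD j 0) (i.val + 1) : ℕ) : ZMod 13) * ((dig v (j + 1) : ℕ) : ZMod 13)) 78]
    push_cast
    apply sum_congr rfl
    intro j _
    ring

end Cfsg.Agent.Helper17.Fi78
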