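import Mathlib
import Cfsg.Agent.Helper17.Fi78.Sem

/-! From the kernel check `chk2 w w' units = true` to the matrix identity `matW w = matW w'`. -/

set_option autoImplicit false
set_option linter.all false
set_option maxRecDepth 100000

namespace Cfsg.Agent.Helper17.Fi78

open Matrix Finset

/-- the generator matrices -/
def Mt (l : ℕ) : Matrix (Fin 78) (Fin 78) (ZMod 13) := matOf (colsP l)

/-- product of the letters, last letter first -/
def matW : List ℕ → Matrix (Fin 78) (Fin 78) (ZMod 13)
  | [] => 1
  | l :: w => matW w * Mt l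

theorem run_spec (w : List ℕ) (hw : ∀ l ∈ w, GoodM (colsP l)) : ∀ v, GoodV v →
    GoodV (run w v) ∧ vecOf (run w v) = matW w *ᵥ vecOf v := by
  induction w with
  | nil =>
    intro v hv
    exact ⟨hv, by simp [run_nil, matW]⟩
  | cons l w ih =>
    intro v hv
    have hl := hw l List.mem_cons_self
    obtain ⟨h1, h2⟩ := mv_spec hl hv
    obtain ⟨h3, h4⟩ := ih (fun l' hl' => hw l' (List.mem_cons_of_mem _ hl')) _ h1
    rw [run_cons]
    refine ⟨h3, ?_⟩
    rw [h4, h2, matW, Mt, Matrix.mulVec_mulVec]

theorem shiftRight_17 (x : ℕ) : x >>> 17 = x / B := by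
  rw [Nat.shiftRight_eq_div_pow]; rfl

theorem vecOf_congr {v v' : ℕ} (h : v / B = v' / B) : vecOf v = vecOf v' := by
  funext i
  unfold vecOf
  rw [dig_succ, dig_succ, h]

theorem chk2_spec (w w' : List ℕ) : ∀ L, chk2 w w' L = true → ∀ e ∈ L, run w e / B = run w' e / B := by
  intro L
  induction L with
  | nil => intro _ e he; simp at he
  | cons a L ih =>
    intro h e he
    simp only [chk2, Bool.and_eq_true] at h
    rcases List.mem_cons.mp he with rfl | he'
    · have := Nat.eq_of_beq_eq_true h.1
      rwa [shiftRight_17, shiftRight_17] at this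
    · exact ih h.2 e he'

instance (P : List ℕ) : Decidable (GoodM P) := by unfold GoodM; infer_instance

theorem units_len : units.length = 78 := by decide

theorem units_spec : ∀ i, i < 78 → ∀ k, k < 78 → dig (units.getD i 0) (k + 1) = if k = i then 1 else 0 := by
  decide +kernel

theorem vecOf_unit (i : Fin 78) : vecOf (units.getD i.val 0) = Pi.single i 1 := by
  funext k
  unfold vecOf
  rw [units_spec i.val i.isLt k.val k.isLt]
  by_cases h : k = i
  · subst h; simp
  · have h' : k.val ≠ i.val := fun e => h (Fin.ext e)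
    simp [h, h']

theorem goodV_unit (i : ℕ) (hi : i < 78) : GoodV (units.getD i 0) := by
  intro k hk
  rw [units_spec i hi k hk]
  split <;> omega

theorem unit_mem (i : ℕ) (hi : i < 78) : units.getD i 0 ∈ units := by
  have hj' : i < units.length := by rw [units_len]; exact hi
  rw [List.getD_eq_getElem _ _ hj']; exact List.getElem_mem _

theorem matW_eq (w w' : List ℕ) (hw : ∀ l ∈ w, GoodM (colsP l)) (hw' : ∀ l ∈ w', GoodM (colsP l))
    (h : chk2 w w' units = true) : matW w = matW w' := by
  have key : ∀ i : Fin 78, matW w *ᵥ Pi.single i 1 = matW w' *ᵥ Pi.single i 1 := by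
    intro i
    have h1 := chk2_spec w w' units h _ (unit_mem i.val i.isLt)
    have h2 := (run_spec w hw _ (goodV_unit i.val i.isLt)).2
    have h3 := (run_spec w' hw' _ (goodV_unit i.val i.isLt)).2
    rw [vecOf_unit] at h2 h3
    rw [← h2, ← h3]
    exact vecOf_congr h1
  ext a b
  have := congrFun (key b) a
  simpa [Matrix.mulVec_single_one] using this

end Cfsg.Agent.Helper17.Fi78
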