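import Mathlib
import Cfsg.Agent.Helper17.Fi78.Eval

set_option autoImplicit false
set_option linter.all false
set_option maxRecDepth 1000000

namespace Cfsg.Agent.Helper17.Fi78

theorem ck_cox_0_1 : chk2 [1, 0, 1, 0, 1, 0] [] units = true := by decide +kernel
theorem ck_cox_0_6 : chk2 [6, 0, 6, 0] [] units = true := by decide +kernel
theorem ck_cox_1_4 : chk2 [4, 1, 4, 1] [] units = true := by decide +kernel
theorem ck_cox_1_8 : chk2 [8, 1, 8, 1] [] units = true := by decide +kernel
theorem ck_cox_2_3 : chk2 [3, 2, 3, 2, 3, 2] [] units = true := by decide +kernel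
theorem ck_cox_2_7 : chk2 [7, 2, 7, 2] [] units = true := by decide +kernel
theorem ck_cox_3_8 : chk2 [8, 3, 8, 3] [] units = true := by decide +kernel
theorem ck_cox_5_6 : chk2 [6, 5, 6, 5, 6, 5] [] units = true := by decide +kernel
theorem ck_cox_5_7 : chk2 [7, 5, 7, 5] [] units = true := by decide +kernel
theorem ck_sq_0 : chk2 [0, 0] [] units = true := by decide +kernel
theorem ck_sq_2 : chk2 [2, 2] [] units = true := by decide +kernel
theorem ck_sq_6 : chk2 [6, 6] [] units = true := by decide +kernel
theorem ck_w9 : chk2 [8, 7, 3, 5, 4, 3, 1, 2, 3] [9] units = true := by decide +kernel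

end Cfsg.Agent.Helper17.Fi78
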