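import Mathlib
import Cfsg.Agent.Helper17.Fi78.Eval

set_option autoImplicit false
set_option linter.all false
set_option maxRecDepth 1000000

namespace Cfsg.Agent.Helper17.Fi78

theorem ck_cox_0_7 : chk2 [7, 0, 7, 0] [] units = true := by decide +kernel
theorem ck_cox_1_2 : chk2 [2, 1, 2, 1, 2, 1] [] units = true := by decide +kernel
theorem ck_cox_1_5 : chk2 [5, 1, 5, 1] [] units = true := by decide +kernel
theorem ck_cox_2_4 : chk2 [4, 2, 4, 2] [] units = true := by decide +kernel
theorem ck_cox_2_8 : chk2 [8, 2, 8, 2] [] units = true := by decide +kernel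
theorem ck_cox_3_4 : chk2 [4, 3, 4, 3, 4, 3] [] units = true := by decide +kernel
theorem ck_cox_4_6 : chk2 [6, 4, 6, 4] [] units = true := by decide +kernel
theorem ck_cox_5_8 : chk2 [8, 5, 8, 5] [] units = true := by decide +kernel
theorem ck_cox_7_8 : chk2 [8, 7, 8, 7, 8, 7] [] units = true := by decide +kernel
theorem ck_p9 : chk2 [9, 9, 9, 9, 9, 9, 9, 9, 9, 9] [] units = true := by decide +kernel
theorem ck_sq_1 : chk2 [1, 1] [] units = true := by decide +kernel
theorem ck_sq_3 : chk2 [3, 3] [] units = true := by decide +kernel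
theorem ck_sq_7 : chk2 [7, 7] [] units = true := by decide +kernel

end Cfsg.Agent.Helper17.Fi78
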