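import Mathlib
import Cfsg.Agent.Helper17.Fi78.Eval

set_option autoImplicit false
set_option linter.all false
set_option maxRecDepth 1000000

namespace Cfsg.Agent.Helper17.Fi78

theorem ck_cox_0_2 : chk2 [2, 0, 2, 0] [] units = true := by decide +kernel
theorem ck_cox_0_4 : chk2 [4, 0, 4, 0] [] units = true := by decide +kernel
theorem ck_cox_0_8 : chk2 [8, 0, 8, 0] [] units = true := by decide +kernel
theorem ck_cox_1_6 : chk2 [6, 1, 6, 1] [] units = true := by decide +kernel
theorem ck_cox_2_5 : chk2 [5, 2, 5, 2] [] units = true := by decide +kernel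
theorem ck_cox_3_5 : chk2 [5, 3, 5, 3] [] units = true := by decide +kernel
theorem ck_cox_3_7 : chk2 [7, 3, 7, 3, 7, 3] [] units = true := by decide +kernel
theorem ck_cox_4_7 : chk2 [7, 4, 7, 4] [] units = true := by decide +kernel
theorem ck_cox_6_7 : chk2 [7, 6, 7, 6] [] units = true := by decide +kernel
theorem ck_p10 : chk2 [10, 10, 10, 10, 10, 10, 10, 10, 10] [] units = true := by decide +kernel
theorem ck_sq_4 : chk2 [4, 4] [] units = true := by decide +kernel
theorem ck_sq_8 : chk2 [8, 8] [] units = true := by decide +kernel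
theorem ck_w10 : chk2 [7, 5, 4, 3, 2, 1, 0] [10] units = true := by decide +kernel

end Cfsg.Agent.Helper17.Fi78
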