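import Mathlib
import Cfsg.Agent.Helper17.Fi78.Eval

set_option autoImplicit false
set_option linter.all false
set_option maxRecDepth 1000000

namespace Cfsg.Agent.Helper17.Fi78

theorem ck_cox_0_3 : chk2 [3, 0, 3, 0] [] units = true := by decide +kernel
theorem ck_cox_0_5 : chk2 [5, 0, 5, 0] [] units = true := by decide +kernel
theorem ck_cox_1_3 : chk2 [3, 1, 3, 1] [] units = true := by decide +kernel
theorem ck_cox_1_7 : chk2 [7, 1, 7, 1] [] units = true := by decide +kernel
theorem ck_cox_2_6 : chk2 [6, 2, 6, 2] [] units = true := by decide +kernel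
theorem ck_cox_3_6 : chk2 [6, 3, 6, 3] [] units = true := by decide +kernel
theorem ck_cox_4_5 : chk2 [5, 4, 5, 4, 5, 4] [] units = true := by decide +kernel
theorem ck_cox_4_8 : chk2 [8, 4, 8, 4] [] units = true := by decide +kernel
theorem ck_cox_6_8 : chk2 [8, 6, 8, 6] [] units = true := by decide +kernel
theorem ck_p11 : chk2 [11, 11, 11, 11, 11, 11, 11, 11, 11] [] units = true := by decide +kernel
theorem ck_sq_5 : chk2 [5, 5] [] units = true := by decide +kernel
theorem ck_w11 : chk2 [7, 6, 5, 4, 3, 2, 1] [11] units = true := by decide +kernel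

end Cfsg.Agent.Helper17.Fi78
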