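import Mathlib
import Cfsg.Agent.Helper17.Fi78.Chk

set_option autoImplicit false
set_option linter.all false
set_option maxRecDepth 1000000

namespace Cfsg.Agent.Helper17.Fi78

theorem good0 : GoodM colsP0 := by decide +kernel
theorem good1 : GoodM colsP1 := by decide +kernel
theorem good2 : GoodM colsP2 := by decide +kernel
theorem good3 : GoodM colsP3 := by decide +kernel
theorem good4 : GoodM colsP4 := by decide +kernel
theorem good5 : GoodM colsP5 := by decide +kernel
theorem good6 : GoodM colsP6 := by decide +kernel
theorem good7 : GoodM colsP7 := by decide +kernel
theorem good8 : GoodM colsP8 := by decide +kernel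
theorem good9 : GoodM colsP9 := by decide +kernel
theorem good10 : GoodM colsP10 := by decide +kernel
theorem good11 : GoodM colsP11 := by decide +kernel

theorem good_colsP (l : ℕ) (hl : l < 12) : GoodM (colsP l) := by
  interval_cases l
  · exact good0
  · exact good1
  · exact good2
  · exact good3
  · exact good4
  · exact good5
  · exact good6
  · exact good7
  · exact good8
  · exact good9
  · exact good10
  · exact good11

theorem good_word (w : List ℕ) (h : ∀ l ∈ w, l < 12) : ∀ l ∈ w, GoodM (colsP l) :=
  fun l hl => good_colsP l (h l hl)

end Cfsg.Agent.Helper17.Fi78
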