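import Mathlib
import Cfsg.Agent.Helper17.Fi22Ord.Simple
import Cfsg.Agent.Helper17.Fi78.Good
import Cfsg.Agent.Helper17.Fi78.Ck0
import Cfsg.Agent.Helper17.Fi78.Ck1
import Cfsg.Agent.Helper17.Fi78.Ck2
import Cfsg.Agent.Helper17.Fi78.Ck3

/-! The 78-dimensional representation of the presented group Fi22 over `ZMod 13`: the nine generator
matrices satisfy the relators (kernel checks `ck_*`), and the representation is faithful since the
presented group is simple. -/

set_option autoImplicit false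
set_option linter.all false
set_option maxRecDepth 100000

noncomputable section

namespace Cfsg.Agent.Helper17.Fi78

open Cfsg.Spor Matrix
open Cfsg.Agent.Helper17.Fi22bTC (Gn Rels G gen idx idx_lt gen_idx)

abbrev GLT := GL (Fin 78) (ZMod 13)

theorem matW_of (w w' : List ℕ) (hw : ∀ l ∈ w, l < 12) (hw' : ∀ l ∈ w', l < 12)
    (h : chk2 w w' units = true) : matW w = matW w' :=
  matW_eq w w' (good_word w hw) (good_word w' hw') h

theorem pow_swapG {H : Type*} [Group H] (a b : H) (m : ℕ) (h : (a * b) ^ m = 1) : (b * a) ^ m = 1 := by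
  have h1 : ∀ k : ℕ, (b * a) ^ k = a⁻¹ * (a * b) ^ k * a := by
    intro k
    induction k with
    | zero => simp
    | succ k ih => rw [pow_succ, ih, pow_succ]; group
  rw [h1, h]; group

theorem Mt0_ne_one : Mt 0 ≠ 1 := by
  intro h
  have := congrFun (congrFun h ⟨0, by decide⟩) ⟨1, by decide⟩
  revert this
  show ((dig ((colsP 0).getD 1 0) (0 + 1) : ℕ) : ZMod 13) = _ → False
  rw [show dig ((colsP 0).getD 1 0) (0 + 1) = 12 from by decide +kernel]
  decide

attribute [local irreducible] Mt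

theorem sqM_0 : Mt 0 * Mt 0 = 1 := by
  have h := matW_of [0, 0] [] (by decide) (by decide) ck_sq_0
  simpa only [matW, one_mul] using h

theorem sqM_1 : Mt 1 * Mt 1 = 1 := by
  have h := matW_of [1, 1] [] (by decide) (by decide) ck_sq_1
  simpa only [matW, one_mul] using h

theorem sqM_2 : Mt 2 * Mt 2 = 1 := by
  have h := matW_of [2, 2] [] (by decide) (by decide) ck_sq_2
  simpa only [matW, one_mul] using h

theorem sqM_3 : Mt 3 * Mt 3 = 1 := by
  have h := matW_of [3, 3] [] (by decide) (by decide) ck_sq_3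
  simpa only [matW, one_mul] using h

theorem sqM_4 : Mt 4 * Mt 4 = 1 := by
  have h := matW_of [4, 4] [] (by decide) (by decide) ck_sq_4
  simpa only [matW, one_mul] using h

theorem sqM_5 : Mt 5 * Mt 5 = 1 := by
  have h := matW_of [5, 5] [] (by decide) (by decide) ck_sq_5
  simpa only [matW, one_mul] using h

theorem sqM_6 : Mt 6 * Mt 6 = 1 := by
  have h := matW_of [6, 6] [] (by decide) (by decide) ck_sq_6
  simpa only [matW, one_mul] using h

theorem sqM_7 : Mt 7 * Mt 7 = 1 := by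
  have h := matW_of [7, 7] [] (by decide) (by decide) ck_sq_7
  simpa only [matW, one_mul] using h

theorem sqM_8 : Mt 8 * Mt 8 = 1 := by
  have h := matW_of [8, 8] [] (by decide) (by decide) ck_sq_8
  simpa only [matW, one_mul] using h

theorem sqM (l : ℕ) (hl : l < 9) : Mt l * Mt l = 1 := by
  interval_cases l
  · exact sqM_0
  · exact sqM_1
  · exact sqM_2
  · exact sqM_3
  · exact sqM_4
  · exact sqM_5
  · exact sqM_6
  · exact sqM_7
  · exact sqM_8

/-- the generators as units -/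
def gU (l : ℕ) : GLT := if h : l < 9 then ⟨Mt l, Mt l, sqM l h, sqM l h⟩ else 1

theorem gU_val (l : ℕ) (hl : l < 9) : ((gU l : GLT) : Matrix (Fin 78) (Fin 78) (ZMod 13)) = Mt l := by
  unfold gU; rw [dif_pos hl]

theorem unit_pow_eq_one {i j m : ℕ} (hi : i < 9) (hj : j < 9) (h : (Mt i * Mt j) ^ m = 1) :
    (gU i * gU j) ^ m = 1 := by
  apply Units.ext
  rw [Units.val_pow_eq_pow_val, Units.val_mul, gU_val i hi, gU_val j hj, h]
  rfl

theorem coxU_0_1 : (gU 0 * gU 1) ^ 3 = 1 := by
  apply unit_pow_eq_one (by decide) (by decide)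
  have h := matW_of [1, 0, 1, 0, 1, 0] [] (by decide) (by decide) ck_cox_0_1
  simp only [matW, one_mul] at h
  rw [← h]
  simp only [pow_succ, pow_zero, one_mul, mul_assoc]

theorem coxU_0_2 : (gU 0 * gU 2) ^ 2 = 1 := by
  apply unit_pow_eq_one (by decide) (by decide)
  have h := matW_of [2, 0, 2, 0] [] (by decide) (by decide) ck_cox_0_2
  simp only [matW, one_mul] at h
  rw [← h]
  simp only [pow_succ, pow_zero, one_mul, mul_assoc]

theorem coxU_0_3 : (gU 0 * gU 3) ^ 2 = 1 := by
  apply unit_pow_eq_one (by decide) (by decide)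
  have h := matW_of [3, 0, 3, 0] [] (by decide) (by decide) ck_cox_0_3
  simp only [matW, one_mul] at h
  rw [← h]
  simp only [pow_succ, pow_zero, one_mul, mul_assoc]

theorem coxU_0_4 : (gU 0 * gU 4) ^ 2 = 1 := by
  apply unit_pow_eq_one (by decide) (by decide)
  have h := matW_of [4, 0, 4, 0] [] (by decide) (by decide) ck_cox_0_4
  simp only [matW, one_mul] at h
  rw [← h]
  simp only [pow_succ, pow_zero, one_mul, mul_assoc]

theorem coxU_0_5 : (gU 0 * gU 5) ^ 2 = 1 := by
  apply unit_pow_eq_one (by decide) (by decide)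
  have h := matW_of [5, 0, 5, 0] [] (by decide) (by decide) ck_cox_0_5
  simp only [matW, one_mul] at h
  rw [← h]
  simp only [pow_succ, pow_zero, one_mul, mul_assoc]

theorem coxU_0_6 : (gU 0 * gU 6) ^ 2 = 1 := by
  apply unit_pow_eq_one (by decide) (by decide)
  have h := matW_of [6, 0, 6, 0] [] (by decide) (by decide) ck_cox_0_6
  simp only [matW, one_mul] at h
  rw [← h]
  simp only [pow_succ, pow_zero, one_mul, mul_assoc]

theorem coxU_0_7 : (gU 0 * gU 7) ^ 2 = 1 := by
  apply unit_pow_eq_one (by decide) (by decide)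
  have h := matW_of [7, 0, 7, 0] [] (by decide) (by decide) ck_cox_0_7
  simp only [matW, one_mul] at h
  rw [← h]
  simp only [pow_succ, pow_zero, one_mul, mul_assoc]

theorem coxU_0_8 : (gU 0 * gU 8) ^ 2 = 1 := by
  apply unit_pow_eq_one (by decide) (by decide)
  have h := matW_of [8, 0, 8, 0] [] (by decide) (by decide) ck_cox_0_8
  simp only [matW, one_mul] at h
  rw [← h]
  simp only [pow_succ, pow_zero, one_mul, mul_assoc]

theorem coxU_1_2 : (gU 1 * gU 2) ^ 3 = 1 := by
  apply unit_pow_eq_one (by decide) (by decide)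
  have h := matW_of [2, 1, 2, 1, 2, 1] [] (by decide) (by decide) ck_cox_1_2
  simp only [matW, one_mul] at h
  rw [← h]
  simp only [pow_succ, pow_zero, one_mul, mul_assoc]

theorem coxU_1_3 : (gU 1 * gU 3) ^ 2 = 1 := by
  apply unit_pow_eq_one (by decide) (by decide)
  have h := matW_of [3, 1, 3, 1] [] (by decide) (by decide) ck_cox_1_3
  simp only [matW, one_mul] at h
  rw [← h]
  simp only [pow_succ, pow_zero, one_mul, mul_assoc]

theorem coxU_1_4 : (gU 1 * gU 4) ^ 2 = 1 := by
  apply unit_pow_eq_one (by decide) (by decide)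
  have h := matW_of [4, 1, 4, 1] [] (by decide) (by decide) ck_cox_1_4
  simp only [matW, one_mul] at h
  rw [← h]
  simp only [pow_succ, pow_zero, one_mul, mul_assoc]

theorem coxU_1_5 : (gU 1 * gU 5) ^ 2 = 1 := by
  apply unit_pow_eq_one (by decide) (by decide)
  have h := matW_of [5, 1, 5, 1] [] (by decide) (by decide) ck_cox_1_5
  simp only [matW, one_mul] at h
  rw [← h]
  simp only [pow_succ, pow_zero, one_mul, mul_assoc]

theorem coxU_1_6 : (gU 1 * gU 6) ^ 2 = 1 := by
  apply unit_pow_eq_one (by decide) (by decide)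
  have h := matW_of [6, 1, 6, 1] [] (by decide) (by decide) ck_cox_1_6
  simp only [matW, one_mul] at h
  rw [← h]
  simp only [pow_succ, pow_zero, one_mul, mul_assoc]

theorem coxU_1_7 : (gU 1 * gU 7) ^ 2 = 1 := by
  apply unit_pow_eq_one (by decide) (by decide)
  have h := matW_of [7, 1, 7, 1] [] (by decide) (by decide) ck_cox_1_7
  simp only [matW, one_mul] at h
  rw [← h]
  simp only [pow_succ, pow_zero, one_mul, mul_assoc]

theorem coxU_1_8 : (gU 1 * gU 8) ^ 2 = 1 := by
  apply unit_pow_eq_one (by decide) (by decide)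
  have h := matW_of [8, 1, 8, 1] [] (by decide) (by decide) ck_cox_1_8
  simp only [matW, one_mul] at h
  rw [← h]
  simp only [pow_succ, pow_zero, one_mul, mul_assoc]

theorem coxU_2_3 : (gU 2 * gU 3) ^ 3 = 1 := by
  apply unit_pow_eq_one (by decide) (by decide)
  have h := matW_of [3, 2, 3, 2, 3, 2] [] (by decide) (by decide) ck_cox_2_3
  simp only [matW, one_mul] at h
  rw [← h]
  simp only [pow_succ, pow_zero, one_mul, mul_assoc]

theorem coxU_2_4 : (gU 2 * gU 4) ^ 2 = 1 := by
  apply unit_pow_eq_one (by decide) (by decide)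
  have h := matW_of [4, 2, 4, 2] [] (by decide) (by decide) ck_cox_2_4
  simp only [matW, one_mul] at h
  rw [← h]
  simp only [pow_succ, pow_zero, one_mul, mul_assoc]

theorem coxU_2_5 : (gU 2 * gU 5) ^ 2 = 1 := by
  apply unit_pow_eq_one (by decide) (by decide)
  have h := matW_of [5, 2, 5, 2] [] (by decide) (by decide) ck_cox_2_5
  simp only [matW, one_mul] at h
  rw [← h]
  simp only [pow_succ, pow_zero, one_mul, mul_assoc]

theorem coxU_2_6 : (gU 2 * gU 6) ^ 2 = 1 := by
  apply unit_pow_eq_one (by decide) (by decide)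
  have h := matW_of [6, 2, 6, 2] [] (by decide) (by decide) ck_cox_2_6
  simp only [matW, one_mul] at h
  rw [← h]
  simp only [pow_succ, pow_zero, one_mul, mul_assoc]

theorem coxU_2_7 : (gU 2 * gU 7) ^ 2 = 1 := by
  apply unit_pow_eq_one (by decide) (by decide)
  have h := matW_of [7, 2, 7, 2] [] (by decide) (by decide) ck_cox_2_7
  simp only [matW, one_mul] at h
  rw [← h]
  simp only [pow_succ, pow_zero, one_mul, mul_assoc]

theorem coxU_2_8 : (gU 2 * gU 8) ^ 2 = 1 := by
  apply unit_pow_eq_one (by decide) (by decide)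
  have h := matW_of [8, 2, 8, 2] [] (by decide) (by decide) ck_cox_2_8
  simp only [matW, one_mul] at h
  rw [← h]
  simp only [pow_succ, pow_zero, one_mul, mul_assoc]

theorem coxU_3_4 : (gU 3 * gU 4) ^ 3 = 1 := by
  apply unit_pow_eq_one (by decide) (by decide)
  have h := matW_of [4, 3, 4, 3, 4, 3] [] (by decide) (by decide) ck_cox_3_4
  simp only [matW, one_mul] at h
  rw [← h]
  simp only [pow_succ, pow_zero, one_mul, mul_assoc]

theorem coxU_3_5 : (gU 3 * gU 5) ^ 2 = 1 := by
  apply unit_pow_eq_one (by decide) (by decide)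
  have h := matW_of [5, 3, 5, 3] [] (by decide) (by decide) ck_cox_3_5
  simp only [matW, one_mul] at h
  rw [← h]
  simp only [pow_succ, pow_zero, one_mul, mul_assoc]

theorem coxU_3_6 : (gU 3 * gU 6) ^ 2 = 1 := by
  apply unit_pow_eq_one (by decide) (by decide)
  have h := matW_of [6, 3, 6, 3] [] (by decide) (by decide) ck_cox_3_6
  simp only [matW, one_mul] at h
  rw [← h]
  simp only [pow_succ, pow_zero, one_mul, mul_assoc]

theorem coxU_3_7 : (gU 3 * gU 7) ^ 3 = 1 := by
  apply unit_pow_eq_one (by decide) (by decide)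
  have h := matW_of [7, 3, 7, 3, 7, 3] [] (by decide) (by decide) ck_cox_3_7
  simp only [matW, one_mul] at h
  rw [← h]
  simp only [pow_succ, pow_zero, one_mul, mul_assoc]

theorem coxU_3_8 : (gU 3 * gU 8) ^ 2 = 1 := by
  apply unit_pow_eq_one (by decide) (by decide)
  have h := matW_of [8, 3, 8, 3] [] (by decide) (by decide) ck_cox_3_8
  simp only [matW, one_mul] at h
  rw [← h]
  simp only [pow_succ, pow_zero, one_mul, mul_assoc]

theorem coxU_4_5 : (gU 4 * gU 5) ^ 3 = 1 := by
  apply unit_pow_eq_one (by decide) (by decide)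
  have h := matW_of [5, 4, 5, 4, 5, 4] [] (by decide) (by decide) ck_cox_4_5
  simp only [matW, one_mul] at h
  rw [← h]
  simp only [pow_succ, pow_zero, one_mul, mul_assoc]

theorem coxU_4_6 : (gU 4 * gU 6) ^ 2 = 1 := by
  apply unit_pow_eq_one (by decide) (by decide)
  have h := matW_of [6, 4, 6, 4] [] (by decide) (by decide) ck_cox_4_6
  simp only [matW, one_mul] at h
  rw [← h]
  simp only [pow_succ, pow_zero, one_mul, mul_assoc]

theorem coxU_4_7 : (gU 4 * gU 7) ^ 2 = 1 := by
  apply unit_pow_eq_one (by decide) (by decide)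
  have h := matW_of [7, 4, 7, 4] [] (by decide) (by decide) ck_cox_4_7
  simp only [matW, one_mul] at h
  rw [← h]
  simp only [pow_succ, pow_zero, one_mul, mul_assoc]

theorem coxU_4_8 : (gU 4 * gU 8) ^ 2 = 1 := by
  apply unit_pow_eq_one (by decide) (by decide)
  have h := matW_of [8, 4, 8, 4] [] (by decide) (by decide) ck_cox_4_8
  simp only [matW, one_mul] at h
  rw [← h]
  simp only [pow_succ, pow_zero, one_mul, mul_assoc]

theorem coxU_5_6 : (gU 5 * gU 6) ^ 3 = 1 := by
  apply unit_pow_eq_one (by decide) (by decide)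
  have h := matW_of [6, 5, 6, 5, 6, 5] [] (by decide) (by decide) ck_cox_5_6
  simp only [matW, one_mul] at h
  rw [← h]
  simp only [pow_succ, pow_zero, one_mul, mul_assoc]

theorem coxU_5_7 : (gU 5 * gU 7) ^ 2 = 1 := by
  apply unit_pow_eq_one (by decide) (by decide)
  have h := matW_of [7, 5, 7, 5] [] (by decide) (by decide) ck_cox_5_7
  simp only [matW, one_mul] at h
  rw [← h]
  simp only [pow_succ, pow_zero, one_mul, mul_assoc]

theorem coxU_5_8 : (gU 5 * gU 8) ^ 2 = 1 := by
  apply unit_pow_eq_one (by decide) (by decide)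
  have h := matW_of [8, 5, 8, 5] [] (by decide) (by decide) ck_cox_5_8
  simp only [matW, one_mul] at h
  rw [← h]
  simp only [pow_succ, pow_zero, one_mul, mul_assoc]

theorem coxU_6_7 : (gU 6 * gU 7) ^ 2 = 1 := by
  apply unit_pow_eq_one (by decide) (by decide)
  have h := matW_of [7, 6, 7, 6] [] (by decide) (by decide) ck_cox_6_7
  simp only [matW, one_mul] at h
  rw [← h]
  simp only [pow_succ, pow_zero, one_mul, mul_assoc]

theorem coxU_6_8 : (gU 6 * gU 8) ^ 2 = 1 := by
  apply unit_pow_eq_one (by decide) (by decide)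
  have h := matW_of [8, 6, 8, 6] [] (by decide) (by decide) ck_cox_6_8
  simp only [matW, one_mul] at h
  rw [← h]
  simp only [pow_succ, pow_zero, one_mul, mul_assoc]

theorem coxU_7_8 : (gU 7 * gU 8) ^ 3 = 1 := by
  apply unit_pow_eq_one (by decide) (by decide)
  have h := matW_of [8, 7, 8, 7, 8, 7] [] (by decide) (by decide) ck_cox_7_8
  simp only [matW, one_mul] at h
  rw [← h]
  simp only [pow_succ, pow_zero, one_mul, mul_assoc]

/-- the Coxeter relation for the pair `(i, j)` -/
def PC (i j : ℕ) : Prop := (gU i * gU j) ^ coxLabel Fi22.edges (gen i) (gen j) = 1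

theorem HC_0_0 : PC 0 0 := by
  unfold PC
  rw [show coxLabel Fi22.edges (gen 0) (gen 0) = 1 from by decide]
  rw [pow_one]
  apply Units.ext
  rw [Units.val_mul, gU_val 0 (by decide), sqM_0]
  rfl

theorem HC_0_1 : PC 0 1 := by
  unfold PC
  rw [show coxLabel Fi22.edges (gen 0) (gen 1) = 3 from by decide]
  exact coxU_0_1

theorem HC_0_2 : PC 0 2 := by
  unfold PC
  rw [show coxLabel Fi22.edges (gen 0) (gen 2) = 2 from by decide]
  exact coxU_0_2

theorem HC_0_3 : PC 0 3 := by
  unfold PC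
  rw [show coxLabel Fi22.edges (gen 0) (gen 3) = 2 from by decide]
  exact coxU_0_3

theorem HC_0_4 : PC 0 4 := by
  unfold PC
  rw [show coxLabel Fi22.edges (gen 0) (gen 4) = 2 from by decide]
  exact coxU_0_4

theorem HC_0_5 : PC 0 5 := by
  unfold PC
  rw [show coxLabel Fi22.edges (gen 0) (gen 5) = 2 from by decide]
  exact coxU_0_5

theorem HC_0_6 : PC 0 6 := by
  unfold PC
  rw [show coxLabel Fi22.edges (gen 0) (gen 6) = 2 from by decide]
  exact coxU_0_6

theorem HC_0_7 : PC 0 7 := by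
  unfold PC
  rw [show coxLabel Fi22.edges (gen 0) (gen 7) = 2 from by decide]
  exact coxU_0_7

theorem HC_0_8 : PC 0 8 := by
  unfold PC
  rw [show coxLabel Fi22.edges (gen 0) (gen 8) = 2 from by decide]
  exact coxU_0_8

theorem HC_1_0 : PC 1 0 := by
  unfold PC
  rw [show coxLabel Fi22.edges (gen 1) (gen 0) = 3 from by decide]
  exact pow_swapG (H := GLT) (gU 0) (gU 1) 3 coxU_0_1

theorem HC_1_1 : PC 1 1 := by
  unfold PC
  rw [show coxLabel Fi22.edges (gen 1) (gen 1) = 1 from by decide]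
  rw [pow_one]
  apply Units.ext
  rw [Units.val_mul, gU_val 1 (by decide), sqM_1]
  rfl

theorem HC_1_2 : PC 1 2 := by
  unfold PC
  rw [show coxLabel Fi22.edges (gen 1) (gen 2) = 3 from by decide]
  exact coxU_1_2

theorem HC_1_3 : PC 1 3 := by
  unfold PC
  rw [show coxLabel Fi22.edges (gen 1) (gen 3) = 2 from by decide]
  exact coxU_1_3

theorem HC_1_4 : PC 1 4 := by
  unfold PC
  rw [show coxLabel Fi22.edges (gen 1) (gen 4) = 2 from by decide]
  exact coxU_1_4

theorem HC_1_5 : PC 1 5 := by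
  unfold PC
  rw [show coxLabel Fi22.edges (gen 1) (gen 5) = 2 from by decide]
  exact coxU_1_5

theorem HC_1_6 : PC 1 6 := by
  unfold PC
  rw [show coxLabel Fi22.edges (gen 1) (gen 6) = 2 from by decide]
  exact coxU_1_6

theorem HC_1_7 : PC 1 7 := by
  unfold PC
  rw [show coxLabel Fi22.edges (gen 1) (gen 7) = 2 from by decide]
  exact coxU_1_7

theorem HC_1_8 : PC 1 8 := by
  unfold PC
  rw [show coxLabel Fi22.edges (gen 1) (gen 8) = 2 from by decide]
  exact coxU_1_8

theorem HC_2_0 : PC 2 0 := by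
  unfold PC
  rw [show coxLabel Fi22.edges (gen 2) (gen 0) = 2 from by decide]
  exact pow_swapG (H := GLT) (gU 0) (gU 2) 2 coxU_0_2

theorem HC_2_1 : PC 2 1 := by
  unfold PC
  rw [show coxLabel Fi22.edges (gen 2) (gen 1) = 3 from by decide]
  exact pow_swapG (H := GLT) (gU 1) (gU 2) 3 coxU_1_2

theorem HC_2_2 : PC 2 2 := by
  unfold PC
  rw [show coxLabel Fi22.edges (gen 2) (gen 2) = 1 from by decide]
  rw [pow_one]
  apply Units.ext
  rw [Units.val_mul, gU_val 2 (by decide), sqM_2]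
  rfl

theorem HC_2_3 : PC 2 3 := by
  unfold PC
  rw [show coxLabel Fi22.edges (gen 2) (gen 3) = 3 from by decide]
  exact coxU_2_3

theorem HC_2_4 : PC 2 4 := by
  unfold PC
  rw [show coxLabel Fi22.edges (gen 2) (gen 4) = 2 from by decide]
  exact coxU_2_4

theorem HC_2_5 : PC 2 5 := by
  unfold PC
  rw [show coxLabel Fi22.edges (gen 2) (gen 5) = 2 from by decide]
  exact coxU_2_5

theorem HC_2_6 : PC 2 6 := by
  unfold PC
  rw [show coxLabel Fi22.edges (gen 2) (gen 6) = 2 from by decide]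
  exact coxU_2_6

theorem HC_2_7 : PC 2 7 := by
  unfold PC
  rw [show coxLabel Fi22.edges (gen 2) (gen 7) = 2 from by decide]
  exact coxU_2_7

theorem HC_2_8 : PC 2 8 := by
  unfold PC
  rw [show coxLabel Fi22.edges (gen 2) (gen 8) = 2 from by decide]
  exact coxU_2_8

theorem HC_3_0 : PC 3 0 := by
  unfold PC
  rw [show coxLabel Fi22.edges (gen 3) (gen 0) = 2 from by decide]
  exact pow_swapG (H := GLT) (gU 0) (gU 3) 2 coxU_0_3

theorem HC_3_1 : PC 3 1 := by
  unfold PC
  rw [show coxLabel Fi22.edges (gen 3) (gen 1) = 2 from by decide]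
  exact pow_swapG (H := GLT) (gU 1) (gU 3) 2 coxU_1_3

theorem HC_3_2 : PC 3 2 := by
  unfold PC
  rw [show coxLabel Fi22.edges (gen 3) (gen 2) = 3 from by decide]
  exact pow_swapG (H := GLT) (gU 2) (gU 3) 3 coxU_2_3

theorem HC_3_3 : PC 3 3 := by
  unfold PC
  rw [show coxLabel Fi22.edges (gen 3) (gen 3) = 1 from by decide]
  rw [pow_one]
  apply Units.ext
  rw [Units.val_mul, gU_val 3 (by decide), sqM_3]
  rfl

theorem HC_3_4 : PC 3 4 := by
  unfold PC
  rw [show coxLabel Fi22.edges (gen 3) (gen 4) = 3 from by decide]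
  exact coxU_3_4

theorem HC_3_5 : PC 3 5 := by
  unfold PC
  rw [show coxLabel Fi22.edges (gen 3) (gen 5) = 2 from by decide]
  exact coxU_3_5

theorem HC_3_6 : PC 3 6 := by
  unfold PC
  rw [show coxLabel Fi22.edges (gen 3) (gen 6) = 2 from by decide]
  exact coxU_3_6

theorem HC_3_7 : PC 3 7 := by
  unfold PC
  rw [show coxLabel Fi22.edges (gen 3) (gen 7) = 3 from by decide]
  exact coxU_3_7

theorem HC_3_8 : PC 3 8 := by
  unfold PC
  rw [show coxLabel Fi22.edges (gen 3) (gen 8) = 2 from by decide]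
  exact coxU_3_8

theorem HC_4_0 : PC 4 0 := by
  unfold PC
  rw [show coxLabel Fi22.edges (gen 4) (gen 0) = 2 from by decide]
  exact pow_swapG (H := GLT) (gU 0) (gU 4) 2 coxU_0_4

theorem HC_4_1 : PC 4 1 := by
  unfold PC
  rw [show coxLabel Fi22.edges (gen 4) (gen 1) = 2 from by decide]
  exact pow_swapG (H := GLT) (gU 1) (gU 4) 2 coxU_1_4

theorem HC_4_2 : PC 4 2 := by
  unfold PC
  rw [show coxLabel Fi22.edges (gen 4) (gen 2) = 2 from by decide]
  exact pow_swapG (H := GLT) (gU 2) (gU 4) 2 coxU_2_4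

theorem HC_4_3 : PC 4 3 := by
  unfold PC
  rw [show coxLabel Fi22.edges (gen 4) (gen 3) = 3 from by decide]
  exact pow_swapG (H := GLT) (gU 3) (gU 4) 3 coxU_3_4

theorem HC_4_4 : PC 4 4 := by
  unfold PC
  rw [show coxLabel Fi22.edges (gen 4) (gen 4) = 1 from by decide]
  rw [pow_one]
  apply Units.ext
  rw [Units.val_mul, gU_val 4 (by decide), sqM_4]
  rfl

theorem HC_4_5 : PC 4 5 := by
  unfold PC
  rw [show coxLabel Fi22.edges (gen 4) (gen 5) = 3 from by decide]
  exact coxU_4_5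

theorem HC_4_6 : PC 4 6 := by
  unfold PC
  rw [show coxLabel Fi22.edges (gen 4) (gen 6) = 2 from by decide]
  exact coxU_4_6

theorem HC_4_7 : PC 4 7 := by
  unfold PC
  rw [show coxLabel Fi22.edges (gen 4) (gen 7) = 2 from by decide]
  exact coxU_4_7

theorem HC_4_8 : PC 4 8 := by
  unfold PC
  rw [show coxLabel Fi22.edges (gen 4) (gen 8) = 2 from by decide]
  exact coxU_4_8

theorem HC_5_0 : PC 5 0 := by
  unfold PC
  rw [show coxLabel Fi22.edges (gen 5) (gen 0) = 2 from by decide]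
  exact pow_swapG (H := GLT) (gU 0) (gU 5) 2 coxU_0_5

theorem HC_5_1 : PC 5 1 := by
  unfold PC
  rw [show coxLabel Fi22.edges (gen 5) (gen 1) = 2 from by decide]
  exact pow_swapG (H := GLT) (gU 1) (gU 5) 2 coxU_1_5

theorem HC_5_2 : PC 5 2 := by
  unfold PC
  rw [show coxLabel Fi22.edges (gen 5) (gen 2) = 2 from by decide]
  exact pow_swapG (H := GLT) (gU 2) (gU 5) 2 coxU_2_5

theorem HC_5_3 : PC 5 3 := by
  unfold PC
  rw [show coxLabel Fi22.edges (gen 5) (gen 3) = 2 from by decide]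
  exact pow_swapG (H := GLT) (gU 3) (gU 5) 2 coxU_3_5

theorem HC_5_4 : PC 5 4 := by
  unfold PC
  rw [show coxLabel Fi22.edges (gen 5) (gen 4) = 3 from by decide]
  exact pow_swapG (H := GLT) (gU 4) (gU 5) 3 coxU_4_5

theorem HC_5_5 : PC 5 5 := by
  unfold PC
  rw [show coxLabel Fi22.edges (gen 5) (gen 5) = 1 from by decide]
  rw [pow_one]
  apply Units.ext
  rw [Units.val_mul, gU_val 5 (by decide), sqM_5]
  rfl

theorem HC_5_6 : PC 5 6 := by
  unfold PC
  rw [show coxLabel Fi22.edges (gen 5) (gen 6) = 3 from by decide]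
  exact coxU_5_6

theorem HC_5_7 : PC 5 7 := by
  unfold PC
  rw [show coxLabel Fi22.edges (gen 5) (gen 7) = 2 from by decide]
  exact coxU_5_7

theorem HC_5_8 : PC 5 8 := by
  unfold PC
  rw [show coxLabel Fi22.edges (gen 5) (gen 8) = 2 from by decide]
  exact coxU_5_8

theorem HC_6_0 : PC 6 0 := by
  unfold PC
  rw [show coxLabel Fi22.edges (gen 6) (gen 0) = 2 from by decide]
  exact pow_swapG (H := GLT) (gU 0) (gU 6) 2 coxU_0_6

theorem HC_6_1 : PC 6 1 := by
  unfold PC
  rw [show coxLabel Fi22.edges (gen 6) (gen 1) = 2 from by decide]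
  exact pow_swapG (H := GLT) (gU 1) (gU 6) 2 coxU_1_6

theorem HC_6_2 : PC 6 2 := by
  unfold PC
  rw [show coxLabel Fi22.edges (gen 6) (gen 2) = 2 from by decide]
  exact pow_swapG (H := GLT) (gU 2) (gU 6) 2 coxU_2_6

theorem HC_6_3 : PC 6 3 := by
  unfold PC
  rw [show coxLabel Fi22.edges (gen 6) (gen 3) = 2 from by decide]
  exact pow_swapG (H := GLT) (gU 3) (gU 6) 2 coxU_3_6

theorem HC_6_4 : PC 6 4 := by
  unfold PC
  rw [show coxLabel Fi22.edges (gen 6) (gen 4) = 2 from by decide]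
  exact pow_swapG (H := GLT) (gU 4) (gU 6) 2 coxU_4_6

theorem HC_6_5 : PC 6 5 := by
  unfold PC
  rw [show coxLabel Fi22.edges (gen 6) (gen 5) = 3 from by decide]
  exact pow_swapG (H := GLT) (gU 5) (gU 6) 3 coxU_5_6

theorem HC_6_6 : PC 6 6 := by
  unfold PC
  rw [show coxLabel Fi22.edges (gen 6) (gen 6) = 1 from by decide]
  rw [pow_one]
  apply Units.ext
  rw [Units.val_mul, gU_val 6 (by decide), sqM_6]
  rfl

theorem HC_6_7 : PC 6 7 := by
  unfold PC
  rw [show coxLabel Fi22.edges (gen 6) (gen 7) = 2 from by decide]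
  exact coxU_6_7

theorem HC_6_8 : PC 6 8 := by
  unfold PC
  rw [show coxLabel Fi22.edges (gen 6) (gen 8) = 2 from by decide]
  exact coxU_6_8

theorem HC_7_0 : PC 7 0 := by
  unfold PC
  rw [show coxLabel Fi22.edges (gen 7) (gen 0) = 2 from by decide]
  exact pow_swapG (H := GLT) (gU 0) (gU 7) 2 coxU_0_7

theorem HC_7_1 : PC 7 1 := by
  unfold PC
  rw [show coxLabel Fi22.edges (gen 7) (gen 1) = 2 from by decide]
  exact pow_swapG (H := GLT) (gU 1) (gU 7) 2 coxU_1_7

theorem HC_7_2 : PC 7 2 := by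
  unfold PC
  rw [show coxLabel Fi22.edges (gen 7) (gen 2) = 2 from by decide]
  exact pow_swapG (H := GLT) (gU 2) (gU 7) 2 coxU_2_7

theorem HC_7_3 : PC 7 3 := by
  unfold PC
  rw [show coxLabel Fi22.edges (gen 7) (gen 3) = 3 from by decide]
  exact pow_swapG (H := GLT) (gU 3) (gU 7) 3 coxU_3_7

theorem HC_7_4 : PC 7 4 := by
  unfold PC
  rw [show coxLabel Fi22.edges (gen 7) (gen 4) = 2 from by decide]
  exact pow_swapG (H := GLT) (gU 4) (gU 7) 2 coxU_4_7

theorem HC_7_5 : PC 7 5 := by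
  unfold PC
  rw [show coxLabel Fi22.edges (gen 7) (gen 5) = 2 from by decide]
  exact pow_swapG (H := GLT) (gU 5) (gU 7) 2 coxU_5_7

theorem HC_7_6 : PC 7 6 := by
  unfold PC
  rw [show coxLabel Fi22.edges (gen 7) (gen 6) = 2 from by decide]
  exact pow_swapG (H := GLT) (gU 6) (gU 7) 2 coxU_6_7

theorem HC_7_7 : PC 7 7 := by
  unfold PC
  rw [show coxLabel Fi22.edges (gen 7) (gen 7) = 1 from by decide]
  rw [pow_one]
  apply Units.ext
  rw [Units.val_mul, gU_val 7 (by decide), sqM_7]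
  rfl

theorem HC_7_8 : PC 7 8 := by
  unfold PC
  rw [show coxLabel Fi22.edges (gen 7) (gen 8) = 3 from by decide]
  exact coxU_7_8

theorem HC_8_0 : PC 8 0 := by
  unfold PC
  rw [show coxLabel Fi22.edges (gen 8) (gen 0) = 2 from by decide]
  exact pow_swapG (H := GLT) (gU 0) (gU 8) 2 coxU_0_8

theorem HC_8_1 : PC 8 1 := by
  unfold PC
  rw [show coxLabel Fi22.edges (gen 8) (gen 1) = 2 from by decide]
  exact pow_swapG (H := GLT) (gU 1) (gU 8) 2 coxU_1_8

theorem HC_8_2 : PC 8 2 := by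
  unfold PC
  rw [show coxLabel Fi22.edges (gen 8) (gen 2) = 2 from by decide]
  exact pow_swapG (H := GLT) (gU 2) (gU 8) 2 coxU_2_8

theorem HC_8_3 : PC 8 3 := by
  unfold PC
  rw [show coxLabel Fi22.edges (gen 8) (gen 3) = 2 from by decide]
  exact pow_swapG (H := GLT) (gU 3) (gU 8) 2 coxU_3_8

theorem HC_8_4 : PC 8 4 := by
  unfold PC
  rw [show coxLabel Fi22.edges (gen 8) (gen 4) = 2 from by decide]
  exact pow_swapG (H := GLT) (gU 4) (gU 8) 2 coxU_4_8

theorem HC_8_5 : PC 8 5 := by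
  unfold PC
  rw [show coxLabel Fi22.edges (gen 8) (gen 5) = 2 from by decide]
  exact pow_swapG (H := GLT) (gU 5) (gU 8) 2 coxU_5_8

theorem HC_8_6 : PC 8 6 := by
  unfold PC
  rw [show coxLabel Fi22.edges (gen 8) (gen 6) = 2 from by decide]
  exact pow_swapG (H := GLT) (gU 6) (gU 8) 2 coxU_6_8

theorem HC_8_7 : PC 8 7 := by
  unfold PC
  rw [show coxLabel Fi22.edges (gen 8) (gen 7) = 3 from by decide]
  exact pow_swapG (H := GLT) (gU 7) (gU 8) 3 coxU_7_8

theorem HC_8_8 : PC 8 8 := by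
  unfold PC
  rw [show coxLabel Fi22.edges (gen 8) (gen 8) = 1 from by decide]
  rw [pow_one]
  apply Units.ext
  rw [Units.val_mul, gU_val 8 (by decide), sqM_8]
  rfl

theorem hcoxT : ∀ t, t < 81 → PC (t / 9) (t % 9) := by
  intro t ht
  interval_cases t
  · exact HC_0_0
  · exact HC_0_1
  · exact HC_0_2
  · exact HC_0_3
  · exact HC_0_4
  · exact HC_0_5
  · exact HC_0_6
  · exact HC_0_7
  · exact HC_0_8
  · exact HC_1_0
  · exact HC_1_1
  · exact HC_1_2
  · exact HC_1_3
  · exact HC_1_4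
  · exact HC_1_5
  · exact HC_1_6
  · exact HC_1_7
  · exact HC_1_8
  · exact HC_2_0
  · exact HC_2_1
  · exact HC_2_2
  · exact HC_2_3
  · exact HC_2_4
  · exact HC_2_5
  · exact HC_2_6
  · exact HC_2_7
  · exact HC_2_8
  · exact HC_3_0
  · exact HC_3_1
  · exact HC_3_2
  · exact HC_3_3
  · exact HC_3_4
  · exact HC_3_5
  · exact HC_3_6
  · exact HC_3_7
  · exact HC_3_8
  · exact HC_4_0
  · exact HC_4_1
  · exact HC_4_2
  · exact HC_4_3
  · exact HC_4_4
  · exact HC_4_5
  · exact HC_4_6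
  · exact HC_4_7
  · exact HC_4_8
  · exact HC_5_0
  · exact HC_5_1
  · exact HC_5_2
  · exact HC_5_3
  · exact HC_5_4
  · exact HC_5_5
  · exact HC_5_6
  · exact HC_5_7
  · exact HC_5_8
  · exact HC_6_0
  · exact HC_6_1
  · exact HC_6_2
  · exact HC_6_3
  · exact HC_6_4
  · exact HC_6_5
  · exact HC_6_6
  · exact HC_6_7
  · exact HC_6_8
  · exact HC_7_0
  · exact HC_7_1
  · exact HC_7_2
  · exact HC_7_3
  · exact HC_7_4
  · exact HC_7_5
  · exact HC_7_6
  · exact HC_7_7
  · exact HC_7_8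
  · exact HC_8_0
  · exact HC_8_1
  · exact HC_8_2
  · exact HC_8_3
  · exact HC_8_4
  · exact HC_8_5
  · exact HC_8_6
  · exact HC_8_7
  · exact HC_8_8

/-- the images of the generators -/
def fU (x : Gn) : GLT := gU (idx x)

theorem hcoxU (x y : Gn) : (fU x * fU y) ^ coxLabel Fi22.edges x y = 1 := by
  have hx : idx x < 9 := idx_lt x
  have hy : idx y < 9 := idx_lt y
  have ht : idx x * 9 + idx y < 81 := by omega
  have h := hcoxT _ ht
  have e1 : (idx x * 9 + idx y) / 9 = idx x := by omega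
  have e2 : (idx x * 9 + idx y) % 9 = idx y := by omega
  rw [e1, e2] at h
  unfold PC at h
  rw [gen_idx, gen_idx] at h
  exact h

theorem val_prod9 (a b c d e f g h i : ℕ) (ha : a < 9) (hb : b < 9) (hc : c < 9) (hd : d < 9) (he : e < 9)
    (hf : f < 9) (hg : g < 9) (hh : h < 9) (hi : i < 9) :
    ((gU a * gU b * gU c * gU d * gU e * gU f * gU g * gU h * gU i : GLT) : Matrix (Fin 78) (Fin 78) (ZMod 13))
      = Mt a * Mt b * Mt c * Mt d * Mt e * Mt f * Mt g * Mt h * Mt i := by
  simp only [Units.val_mul, gU_val _ ha, gU_val _ hb, gU_val _ hc, gU_val _ hd, gU_val _ he, gU_val _ hf,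
    gU_val _ hg, gU_val _ hh, gU_val _ hi]

theorem val_prod7 (a b c d e f g : ℕ) (ha : a < 9) (hb : b < 9) (hc : c < 9) (hd : d < 9) (he : e < 9)
    (hf : f < 9) (hg : g < 9) :
    ((gU a * gU b * gU c * gU d * gU e * gU f * gU g : GLT) : Matrix (Fin 78) (Fin 78) (ZMod 13))
      = Mt a * Mt b * Mt c * Mt d * Mt e * Mt f * Mt g := by
  simp only [Units.val_mul, gU_val _ ha, gU_val _ hb, gU_val _ hc, gU_val _ hd, gU_val _ he, gU_val _ hf,
    gU_val _ hg]

theorem X0 : (gU 3 * gU 2 * gU 1 * gU 3 * gU 4 * gU 5 * gU 3 * gU 7 * gU 8) ^ 10 = 1 := by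
  apply Units.ext
  rw [Units.val_pow_eq_pow_val, val_prod9 3 2 1 3 4 5 3 7 8 (by decide) (by decide) (by decide) (by decide)
    (by decide) (by decide) (by decide) (by decide) (by decide)]
  have h1 := matW_of [8, 7, 3, 5, 4, 3, 1, 2, 3] [9] (by decide) (by decide) ck_w9
  have h2 := matW_of [9, 9, 9, 9, 9, 9, 9, 9, 9, 9] [] (by decide) (by decide) ck_p9
  simp only [matW, one_mul] at h1 h2
  rw [h1, Units.val_one, ← h2]
  simp only [pow_succ, pow_zero, one_mul]

theorem X1 : (gU 0 * gU 1 * gU 2 * gU 3 * gU 4 * gU 5 * gU 7) ^ 9 = 1 := by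
  apply Units.ext
  rw [Units.val_pow_eq_pow_val, val_prod7 0 1 2 3 4 5 7 (by decide) (by decide) (by decide) (by decide)
    (by decide) (by decide) (by decide)]
  have h1 := matW_of [7, 5, 4, 3, 2, 1, 0] [10] (by decide) (by decide) ck_w10
  have h2 := matW_of [10, 10, 10, 10, 10, 10, 10, 10, 10] [] (by decide) (by decide) ck_p10
  simp only [matW, one_mul] at h1 h2
  rw [h1, Units.val_one, ← h2]
  simp only [pow_succ, pow_zero, one_mul]

theorem X2 : (gU 1 * gU 2 * gU 3 * gU 4 * gU 5 * gU 6 * gU 7) ^ 9 = 1 := by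
  apply Units.ext
  rw [Units.val_pow_eq_pow_val, val_prod7 1 2 3 4 5 6 7 (by decide) (by decide) (by decide) (by decide)
    (by decide) (by decide) (by decide)]
  have h1 := matW_of [7, 6, 5, 4, 3, 2, 1] [11] (by decide) (by decide) ck_w11
  have h2 := matW_of [11, 11, 11, 11, 11, 11, 11, 11, 11] [] (by decide) (by decide) ck_p11
  simp only [matW, one_mul] at h1 h2
  rw [h1, Units.val_one, ← h2]
  simp only [pow_succ, pow_zero, one_mul]

theorem hextraU : ∀ r ∈ Fi22.extra, FreeGroup.lift fU r = 1 := by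
  intro r hr
  simp only [Fi22.extra, List.mem_cons, List.mem_singleton, List.not_mem_nil, or_false] at hr
  rcases hr with rfl | rfl | rfl
  · simp only [map_mul, map_pow, FreeGroup.lift_apply_of, fU, idx]
    exact X0
  · simp only [map_mul, map_pow, FreeGroup.lift_apply_of, fU, idx]
    exact X1
  · simp only [map_mul, map_pow, FreeGroup.lift_apply_of, fU, idx]
    exact X2

theorem hrelU : ∀ r ∈ Rels, FreeGroup.lift fU r = 1 := by
  intro r hr
  rcases hr with ⟨x, _, y, _, rfl⟩ | hr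
  · rw [map_pow, map_mul, FreeGroup.lift_apply_of, FreeGroup.lift_apply_of]
    exact hcoxU x y
  · exact hextraU r hr

/-- the representation -/
def phi78 : G →* GLT := PresentedGroup.toGroup hrelU

theorem phi78_of (x : Gn) : phi78 (PresentedGroup.of x) = fU x := by
  unfold phi78; exact PresentedGroup.toGroup.of hrelU

theorem phi78_injective : Function.Injective phi78 := by
  haveI := Cfsg.Agent.Helper17.Fi22Ord.isSimple
  rw [← MonoidHom.ker_eq_bot_iff]
  rcases (phi78.normal_ker).eq_bot_or_eq_top with h | h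
  · exact h
  · exfalso
    have h1 : (PresentedGroup.of Fi22.Gen.a : G) ∈ phi78.ker := by rw [h]; exact Subgroup.mem_top _
    rw [MonoidHom.mem_ker, phi78_of] at h1
    have h2 : ((fU Fi22.Gen.a : GLT) : Matrix (Fin 78) (Fin 78) (ZMod 13)) = Mt 0 := gU_val 0 (by decide)
    rw [h1] at h2
    exact Mt0_ne_one h2.symm

end Cfsg.Agent.Helper17.Fi78
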